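import Cfsg.Agent.H7.R3A

/-! The generalized quadrangle with 27 points and lines of size three is unique. -/

set_option autoImplicit false
set_option maxRecDepth 100000

namespace Cfsg.A8.ES

open H7.R3 MulAction

def tA : ℕ := nat_lit 0x9e307025a516092c64c21a526885295520c31b216118b854129b13014ba38018f869007c2a901744c90364871074501e0f06d21e083525c08592d8088e3d00903fc00a5bc200d5b4201cda4203e384207f80420c00f83e0000ffc

def tW : ℕ := nat_lit 0x3cde0490f4801243cde040cf4801030000000116780e245e00388000000000000000000000000000002981b022a588c08af323423000000000000000a606700a9621c02bcc8800da119c02684670080000000000000000000000432202a9a7884af3c9c051400000003d200514f27010300000000f480103455c0388000000045e00388000000000000002981b02200000002952b022bc8ad08c0000000a60670080000000a54a700af22a003684670080000000684670080000000000000010c8808969e21238f2701663cde0598000000000000000f2701033cde040c0000000455c038916780e200000002791b0220000000000000009d4cc08ad2334239e4670080000000000000027531c02b48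c800c000000068467009a119c0200000000000000043220225a78848e3c5a0514f1681240000000000000003d200514f4801244d5a038800000000000000139800e2000000029623022a54ac0880000000cc4ae0900000000a588700a9529c0200000003312a40470487008000000000000001c121c02000000012c9006871e411b4f16816600000000f1681243cde059800000003cde049000000004d5a038800000004e1e038a77230220000000275330220000000311338249dc8700800000009d4c70080000000c44c901000000007048700800000007048700800000004b2401a1c79046d00000000f1681663c5a0514f2701663c9c05140000000000000000000000559a038958700e295cac08a5633022000000000000000c44cf0965729c02958c70080000000000000031132805000000000000000784a7009e129c02000000014c9806879e611b511601454458049000000004c98040c000000000000000000000045e0051517801244e60040c0000000bcc8d08ef22b423cc4ae090000000000000002f322003bc8a800f312a40400000001c12200300000000000000000000001c1220034b6a011dc8a844c4458059800000004458049000000004c98040c0000000459e05980000000459e04913878103b508d08c0000000b48cd08f113382400000002d422003000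00002d232003c44c9010000000000000001c1220030000000000000007048800d2da8047722a1130000000044580599116014500000000000000054d8040d1570166455c05140000000561c040eb42b423acccd08c0000000c44cf0940000000ad0a800eb33200300000003113280500000000000000000000001e12a00300000001e12a003536c011de8b044c0000000000000000000000132601664c98051553601244d5a05993568145559a04900000000ad0ae092b333824b48cf094000000000000002b42a404accc9012d23280500000000000000000000000000000000000001e12a404784a90114ec00477a7011300000000000000024e3b041000000022d3b0418b4ec10400000008b10d1862c434619312e204000000025a80598b5a01662d680598b2b8166ab90260400000000000000000000000000000000000006c4eb019b13ac06748eb019d542c060000000264bb041000000024e3b041000000022d3b041000000022d3b0418b10d18400000008b10d1864c4b88125e60514000000035660514d59814534ac05140000000ab90260400000000000000000000006c4ea01400000006c4ea015d23a8057550a0140000000a12cc1066f3b0410000000000000008b4ec1062d3b041000000022c434618b10d18400000009b14f284b79012435a40490000000035a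40490d3a8124000000000000000b3d02604000000000000001b13a4046c4e901000000007cce9011f6424040000000285ab0419bcec1064e3b041938ec10400000000000000000000009312e2064c4b8819b14f28400000002e62040cd8881033622040c000000034ea040c0000000000000000000000c3d226040000000748e800dd23a0037cce800c00000007e12800c0000000a16ac106cf43461ab90d186ae43461ab52e206ad4b881b354f284000000000000000000000000000000b9880e236220388d8880e235a403880000000000000000000000000000000000000c3d23685d541c0275507009f641c027e127008000000000000002e5934610000000000000009258710000000008a1871022861c4000000002276a06089da81824772480aa5a2380000000000000000000000000000000000000025a81818b5a06062d681818b2b86060000000111640264459009932640264d5b009a64b9c400000000000000009258710000000008a18710000000008a187102276a06000000002276a06091dc92000000000aa5a2380000000000000000000000025e61794000000035661794d5985e534ac17951163c25000000011163c254c98f095356bc25a12c710000000009a9871000000000000000022861c408a187100000000089da8182276a06000000002677a8a0000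000000000000b29a2380000000000000000b7905c435a41710000000035a41710d3a85c44458e0911163824000000015363824559ae09285a9c40000000026a61c40925871024961c4000000000000000000000002477248091dc9202677a8a0000000000000000000000000000000c29c238000000002e62168cd8885a33622168c000000034ea168d32634234c98d08d5363423000000015873423a16a71000000000b29a8182a96a060aa5a8182a872480aa1c9202c87a8a0000000000000000000000000000000000000000000000000000000000000c29c3400b98858236221608d88858235a4160800000004d5ac089356b022559ac089587302200000002e59206000000001a309c4068c27100000000071027100000000000000001c40a06000000000000000000000000000000069e2a281a78a48071e48181c8a9c40000000010c8bca14322e2052c934614b6ac104000000025e7a7acb7965cb2e6376acb98d18b00000000000000068c27100000000068c27100000000071027100000000000000001c40a06000000000000000069e2b300000000069e29201c792060722a71010c8c0c1000000010c8b8814b24d1852dab04125a9a828000000035a58728d88d9aa36233628000000000000000000000068c27101a309c40000000000000000794271000000000000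00001e50a06000000001a78acc069e2a280000000079e68181e8b1c40432303050c8bca1000000014c9b461536cc104b5a6609356787a40000000362356a4d88c98900000000000000000000000000000000000001c409c4071027101e509c4000000000000000000000001e50a48071e4b301c7928a079e6920000000007a7071012c940c14b24f2854c9b881000000014ec30412d697820d59d9e835a55720000000035a51620000000000000000000000000000000000000000000000000000000000001c40a06071028181e50a06079429201c8aacc0722aa281e8b24807a70818000000004b6b03052dabca1536ce2054ec346100000000b2bd20734ad379cd3ac9c734eb169c00000000000000000000004458051511601244458049132601034c98040d53601034d5a038935680e2559a038958700e2000000000000000000000000000000000000027919c02a606700a9819c02a588700af322003000000000000000000000000000000000000000000000c29d1431b1385e56c4e1711b1385c4748e168dd2385a37cce168dd54058275501609f6405827e12160a791b022a606c08a981b022a588c08af323423000000000000000000000000000000000000000000000000000000000000000000000000000c3d3169c0000000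

def tC : ℕ := nat_lit 0xd66f4d03169e700acaf6a82349ca20

/-- the model graph -/
def r0 (p q : Fin 27) : Prop := Nat.testBit tA (Nat.add (Nat.mul 27 p.1) q.1) = true

instance instDecR0 (p q : Fin 27) : Decidable (r0 p q) := inferInstanceAs (Decidable (_ = true))

def wt (p q : Fin 27) (k : ℕ) : Fin 27 := Fin.ofNat 27 (Nat.land (Nat.shiftRight tW
  (Nat.mul 5 (Nat.add (Nat.mul 6 (Nat.add (Nat.mul 27 p.1) q.1)) k))) 31)

def Z (i : Fin 5) : Fin 27 := Fin.ofNat 27 (i.1 + 2)
def A (i : Fin 5) : Fin 27 := Fin.ofNat 27 (i.1 + 7)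
def B (i : Fin 5) : Fin 27 := Fin.ofNat 27 (i.1 + 12)
def C (i j : Fin 5) : Fin 27 := Fin.ofNat 27 (Nat.land (Nat.shiftRight tC (5 * (5 * i.1 + j.1))) 31)

def E (p q : Fin 27) : Prop := ∃ i, (p = 0 ∧ q = Z i) ∨ (p = 0 ∧ q = A i) ∨ (p = Z i ∧ q = A i) ∨
  (p = 1 ∧ q = Z i) ∨ (p = 1 ∧ q = B i) ∨ (p = Z i ∧ q = B i) ∨ ∃ j, i ≠ j ∧
    ((p = A i ∧ q = B j) ∨ (p = A i ∧ q = C i j) ∨ (p = B j ∧ q = C i j) ∨ (p = C i j ∧ ∃ k,
      k ≠ i ∧ k ≠ j ∧ (q = Z k ∨ ∃ l, k ≠ l ∧ l ≠ i ∧ l ≠ j ∧ q = C k l)))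

instance instDecE (p q : Fin 27) : Decidable (E p q) := by unfold E; infer_instance

theorem hE : ∀ p q, r0 p q → E p q ∨ E q p := by decide +kernel

theorem hW : ∀ p q, p ≠ q → r0 p q ∨ (r0 p (wt p q 0) ∧ r0 q (wt p q 1) ∧
    r0 (wt p q 0) (wt p q 1) ∧ r0 (wt p q 0) (wt p q 2) ∧ r0 (wt p q 1) (wt p q 2) ∧
    r0 p (wt p q 3) ∧ r0 q (wt p q 4) ∧ r0 (wt p q 3) (wt p q 4) ∧ r0 (wt p q 3) (wt p q 5) ∧
    r0 (wt p q 4) (wt p q 5) ∧ r0 (wt p q 2) (wt p q 5)) := by decide +kernel

theorem hD : ∀ p, (Finset.univ.filter (r0 p)).card = 10 := by decide +kernel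

/-- collinearity graph of a generalized quadrangle of order `(2, 4)` -/
structure GQ {X : Type*} (r : X → X → Prop) : Prop where
  sym : ∀ {x y}, r x y → r y x
  irr : ∀ {x}, ¬ r x x
  uq : ∀ {x y w v}, r x y → r x w → r y w → r x v → r y v → w = v
  gq : ∀ {x y w}, r x y → r x w → r y w → ∀ v, r v x ∨ r v y ∨ r v w
  five : ∀ x, ∃ u v : Fin 5 → X, (∀ i, r x (u i) ∧ r x (v i) ∧ r (u i) (v i)) ∧
    (∀ w, r x w → ∃ i, w = u i ∨ w = v i) ∧
    ∀ i j, u i = u j ∨ u i = v j ∨ v i = v j → i = j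

namespace GQ

variable {X : Type*} {r : X → X → Prop} (h : GQ r)
include h

theorem tri {x y : X} (e : r x y) : ∃ w, r x w ∧ r y w := by
  obtain ⟨u, v, a, b, -⟩ := h.five x
  obtain ⟨i, rfl | rfl⟩ := b y e
  exacts [⟨_, (a i).2.1, (a i).2.2⟩, ⟨_, (a i).1, h.sym (a i).2.2⟩]

theorem far (x : X) : ∃ y, x ≠ y ∧ ¬ r x y := by
  obtain ⟨u, v, a, -, -⟩ := h.five x
  obtain ⟨u', v', a', b', c'⟩ := h.five (u 0)
  obtain ⟨i, hi⟩ := b' x (h.sym (a 0).1)
  obtain ⟨j, hj⟩ := exists_ne i
  refine ⟨u' j, fun e => hj ?_, fun e => hj ?_⟩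
  · rcases hi with hi | hi
    exacts [c' _ _ (.inl (e.symm.trans hi)), c' _ _ (.inr (.inl (e.symm.trans hi)))]
  · rcases hi with rfl | rfl
    · exact c' _ _ (.inr (.inl (h.uq (a' i).1 (a' j).1 e (a' i).2.1 (a' i).2.2)))
    · exact c' _ _ (.inl (h.uq (a' i).2.1 (a' j).1 e (a' i).1 (h.sym (a' i).2.2)))

theorem hom (x : X) : ∃ f : Fin 27 → X, ∀ p q, r0 p q → r (f p) (f q) := by
  obtain ⟨y, xy, nxy⟩ := h.far x
  obtain ⟨u, v, h1, -, h3⟩ := h.five x
  have s := @h.sym
  have k : ∀ i, ∃ z a, r x z ∧ r x a ∧ r z a ∧ r y z ∧ (z = u i ∨ z = v i) := fun i => by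
    rcases h.gq (h1 i).1 (h1 i).2.1 (h1 i).2.2 y with e | e | e
    exacts [absurd (s e) nxy, ⟨_, _, (h1 i).1, (h1 i).2.1, (h1 i).2.2, e, .inl rfl⟩,
      ⟨_, _, (h1 i).2.1, (h1 i).1, s (h1 i).2.2, e, .inr rfl⟩]
  choose z a xz xa za yz hz using k
  choose b yb zb using fun i => h.tri (yz i)
  have zi : ∀ i j, z i = z j → i = j := fun i j e => by
    rcases hz i with p | p <;> rcases hz j with q | q <;> rw [p, q] at e
    exacts [h3 _ _ (.inl e), h3 _ _ (.inr (.inl e)), (h3 _ _ (.inr (.inl e.symm))).symm,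
      h3 _ _ (.inr (.inr e))]
  have ai : ∀ i j, a i = a j → i = j := fun i j e =>
    zi _ _ (h.uq (xa j) (xz i) (e ▸ s (za i)) (xz j) (s (za j)))
  have bi : ∀ i j, b i = b j → i = j := fun i j e =>
    zi _ _ (h.uq (yb j) (yz i) (e ▸ s (zb i)) (yz j) (s (zb j)))
  have nya : ∀ i, ¬ r y (a i) := fun i e => xy (h.uq (za i) (s (xz i)) (s (xa i)) (s (yz i)) (s e))
  have nxb : ∀ i, ¬ r x (b i) := fun i e => xy (h.uq (zb i) (s (xz i)) (s e) (s (yz i)) (s (yb i)))
  have ab : ∀ i j, i ≠ j → r (a i) (b j) := fun i j n => by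
    rcases h.gq (yz j) (yb j) (zb j) (a i) with e | e | e
    exacts [absurd (s e) (nya i), absurd (ai _ _ (h.uq (xz j) (xa i) (s e) (xa j) (za j))) n, e]
  have k : ∀ i j, ∃ c, i ≠ j → r (a i) c ∧ r (b j) c := fun i j => by
    by_cases n : i = j
    exacts [⟨x, fun m => absurd n m⟩, (h.tri (ab i j n)).imp fun _ e _ => e]
  choose c hc using k
  have ac := fun i j n => (hc i j n).1
  have bc := fun i j n => (hc i j n).2
  have ncx : ∀ i j, i ≠ j → ¬ r (c i j) x := fun i j n e =>
    nxy (s (h.uq (ac i j n) (s (xa i)) e (ab i j n) (s (bc i j n)) ▸ yb j))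
  have ncy : ∀ i j, i ≠ j → ¬ r (c i j) y := fun i j n e =>
    nxy (h.uq (bc i j n) (s (yb j)) e (s (ab i j n)) (s (ac i j n)) ▸ xa i)
  have ca : ∀ i j, i ≠ j → r (c i j) (a j) := fun i j n => by
    rcases h.gq (xz j) (xa j) (za j) (c i j) with e | e | e
    exacts [absurd e (ncx i j n),
      absurd (h.uq (bc i j n) (s (zb j)) e (s (ab i j n)) (s (ac i j n)) ▸ yz j) (nya i), e]
  have cb : ∀ i j, i ≠ j → r (c i j) (b i) := fun i j n => by
    rcases h.gq (yz i) (yb i) (zb i) (c i j) with e | e | e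
    exacts [absurd e (ncy i j n),
      absurd (h.uq (ac i j n) (s (za i)) e (ab i j n) (s (bc i j n)) ▸ xz i) (nxb j), e]
  have cs : ∀ i j, i ≠ j → c i j = c j i := fun i j n =>
    h.uq (ab j i n.symm) (s (ca i j n)) (s (cb i j n)) (ac j i n.symm) (bc j i n.symm)
  have nca : ∀ i j k, i ≠ j → k ≠ i → k ≠ j → ¬ r (c i j) (a k) := fun i j k n p q e =>
    p (ai _ _ (h.uq (bc i j n) (s (ab k j q)) e (s (ab i j n)) (s (ac i j n))))
  have ncb : ∀ i j k, i ≠ j → k ≠ i → k ≠ j → ¬ r (c i j) (b k) := fun i j k n p q e =>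
    q (bi _ _ (h.uq (ac i j n) (ab i k p.symm) e (ab i j n) (s (bc i j n))))
  have cz : ∀ i j k, i ≠ j → k ≠ i → k ≠ j → r (c i j) (z k) := fun i j k n p q =>
    ((h.gq (xz k) (xa k) (za k) (c i j)).resolve_left (ncx i j n)).resolve_right (nca i j k n p q)
  have cc : ∀ i j k l, i ≠ j → k ≠ i → k ≠ j → k ≠ l → l ≠ i → l ≠ j → r (c i j) (c k l) :=
    fun i j k l n p q t p' q' => ((h.gq (ab k l t) (ac k l t) (bc k l t) (c i j)).resolve_left
      (nca i j k n p q)).resolve_left (ncb i j l n p' q')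
  let f : Fin 27 → X := ![x, y, z 0, z 1, z 2, z 3, z 4, a 0, a 1, a 2, a 3, a 4, b 0, b 1, b 2,
    b 3, b 4, c 0 1, c 0 2, c 0 3, c 0 4, c 1 2, c 1 3, c 1 4, c 2 3, c 2 4, c 3 4]
  have fz : ∀ i, f (Z i) = z i := fun i => by fin_cases i <;> rfl
  have fa : ∀ i, f (A i) = a i := fun i => by fin_cases i <;> rfl
  have fb : ∀ i, f (B i) = b i := fun i => by fin_cases i <;> rfl
  have fc : ∀ i j, i ≠ j → f (C i j) = c i j := fun i j n => by
    fin_cases i <;> fin_cases j <;>
      first | exact absurd rfl n | rfl | exact (cs _ _ n).symm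
  have f0 : f 0 = x := rfl
  have f1 : f 1 = y := rfl
  have key : ∀ p q, E p q → r (f p) (f q) := by
    rintro p q ⟨i, ⟨rfl, rfl⟩ | ⟨rfl, rfl⟩ | ⟨rfl, rfl⟩ | ⟨rfl, rfl⟩ | ⟨rfl, rfl⟩ | ⟨rfl, rfl⟩ |
      ⟨j, n, ⟨rfl, rfl⟩ | ⟨rfl, rfl⟩ | ⟨rfl, rfl⟩ | ⟨rfl, k, p, q, rfl | ⟨l, t, p', q', rfl⟩⟩⟩⟩
    · rw [fz]; exact xz i
    · rw [fa]; exact xa i
    · rw [fz, fa]; exact za i
    · rw [fz]; exact yz i
    · rw [fb]; exact yb i
    · rw [fz, fb]; exact zb i
    · rw [fa, fb]; exact ab i j n
    · rw [fa, fc i j n]; exact ac i j n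
    · rw [fb, fc i j n]; exact bc i j n
    · rw [fz, fc i j n]; exact cz i j k n p q
    · rw [fc i j n, fc k l t]; exact cc i j k l n p q t p' q'
  exact ⟨f, fun p q e => (hE p q e).elim (key p q) fun e => s (key q p e)⟩

theorem lab (x : X) : ∃ e : Fin 27 ≃ X, ∀ p q, r0 p q ↔ r (e p) (e q) := by
  classical
  obtain ⟨f, hf⟩ := h.hom x
  have inj : Function.Injective f := fun p q e => by
    by_contra n
    rcases hW p q n with t | ⟨t1, t2, t3, t4, t5, t6, t7, t8, t9, t10, t11⟩
    · exact h.irr (e ▸ hf _ _ t)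
    · have a := h.uq (hf _ _ t3) (h.sym (hf _ _ t1)) (e ▸ h.sym (hf _ _ t2)) (hf _ _ t4) (hf _ _ t5)
      have b := h.uq (hf _ _ t8) (h.sym (hf _ _ t6)) (e ▸ h.sym (hf _ _ t7)) (hf _ _ t9) (hf _ _ t10)
      have c := hf _ _ t11
      rw [← a, ← b] at c
      exact h.irr c
  have nb : ∀ p w, r (f p) w → ∃ q, r0 p q ∧ f q = w := fun p w e => by
    obtain ⟨u, v, -, b, -⟩ := h.five (f p)
    have m : ∀ w, r (f p) w → w ∈ Finset.univ.image u ∪ Finset.univ.image v := fun w e => by
      obtain ⟨i, rfl | rfl⟩ := b w e <;> simp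
    have : (Finset.univ.filter (r0 p)).image f = Finset.univ.image u ∪ Finset.univ.image v := by
      refine Finset.eq_of_subset_of_card_le (fun w hw => ?_) ?_
      · obtain ⟨q, hq, rfl⟩ := Finset.mem_image.1 hw
        exact m _ (hf _ _ (Finset.mem_filter.1 hq).2)
      · rw [Finset.card_image_of_injective _ inj, hD]
        exact (Finset.card_union_le _ _).trans (add_le_add (Finset.card_image_le.trans (by simp))
          (Finset.card_image_le.trans (by simp)) : _ ≤ 5 + 5)
    obtain ⟨q, hq, e⟩ := Finset.mem_image.1 (this.ge (m w e))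
    exact ⟨q, (Finset.mem_filter.1 hq).2, e⟩
  have sur : Function.Surjective f := fun v => by
    rcases h.gq (hf 0 2 (by decide +kernel)) (hf 0 7 (by decide +kernel))
      (hf 2 7 (by decide +kernel)) v with e | e | e <;>
    exact (nb _ _ (h.sym e)).imp fun _ t => t.2
  refine ⟨Equiv.ofBijective f ⟨inj, sur⟩, fun p q => ⟨hf p q, fun e => ?_⟩⟩
  obtain ⟨q', a, b⟩ := nb p _ e
  exact inj b ▸ a

end GQ

theorem step (K : Subgroup (Equiv.Perm (Fin 27))) (a : Fin 27) (S : Finset (Fin 27))
    (h : ∀ g ∈ K, g a ∈ S) :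
    Nat.card K ≤ S.card * Nat.card (K ⊓ stabilizer (Equiv.Perm (Fin 27)) a : Subgroup _) := by
  have e1 := (stabilizer K a).index_mul_card
  have e2 : Nat.card (stabilizer K a) =
      Nat.card (K ⊓ stabilizer (Equiv.Perm (Fin 27)) a : Subgroup _) := by
    rw [← Subgroup.card_map_of_injective K.subtype_injective, inf_comm,
      ← Subgroup.subgroupOf_map_subtype]
    rfl
  rw [← e1, e2, index_stabilizer]
  refine Nat.mul_le_mul_right _ ?_
  rw [← Set.ncard_coe_finset]
  refine Set.ncard_le_ncard ?_ S.finite_toSet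
  rintro _ ⟨g, rfl⟩
  exact h g g.2

theorem pat : ∀ p q : Fin 27, 7 ≤ p → (r0 0 q ↔ r0 0 p) → (r0 1 q ↔ r0 1 p) → (r0 2 q ↔ r0 2 p) →
    (r0 3 q ↔ r0 3 p) → (r0 4 q ↔ r0 4 p) → (r0 5 q ↔ r0 5 p) → (r0 6 q ↔ r0 6 p) → q = p := by
  decide +kernel

theorem card_aut : Nat.card (Aut r0) ≤ 51840 := by
  have ne : ∀ (g : Equiv.Perm (Fin 27)) {a b : Fin 27}, g a = a → b ≠ a → g b ≠ a :=
    fun g a b e n t => n (g.injective (t.trans e.symm))
  have ad : ∀ g ∈ Aut r0, ∀ {a : Fin 27} (b : Fin 27), g a = a → (r0 a (g b) ↔ r0 a b) :=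
    fun g hg a b e => by rw [← hg a b, e]
  have a0 := step (Aut r0) 0 Finset.univ fun _ _ => Finset.mem_univ _
  have a1 := step (Aut r0 ⊓ stabilizer _ (0 : Fin 27)) 1
    (Finset.univ.filter fun q => q ≠ 0 ∧ ¬ r0 0 q) fun g ⟨h, h0⟩ => Finset.mem_filter.2
      ⟨Finset.mem_univ _, ne g h0 (by decide), (ad g h _ h0).not.2 (by decide +kernel)⟩
  have a2 := step (Aut r0 ⊓ stabilizer _ (0 : Fin 27) ⊓ stabilizer _ (1 : Fin 27)) 2
    (Finset.univ.filter fun q => r0 0 q ∧ r0 1 q) fun g ⟨⟨h, h0⟩, h1⟩ => Finset.mem_filter.2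
      ⟨Finset.mem_univ _, (ad g h _ h0).2 (by decide +kernel), (ad g h _ h1).2 (by decide +kernel)⟩
  have a3 := step (Aut r0 ⊓ stabilizer _ (0 : Fin 27) ⊓ stabilizer _ (1 : Fin 27) ⊓
    stabilizer _ (2 : Fin 27)) 3 (Finset.univ.filter fun q => r0 0 q ∧ r0 1 q ∧ q ≠ 2)
    fun g ⟨⟨⟨h, h0⟩, h1⟩, h2⟩ => Finset.mem_filter.2
      ⟨Finset.mem_univ _, (ad g h _ h0).2 (by decide +kernel), (ad g h _ h1).2 (by decide +kernel),
        ne g h2 (by decide)⟩
  have a4 := step (Aut r0 ⊓ stabilizer _ (0 : Fin 27) ⊓ stabilizer _ (1 : Fin 27) ⊓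
    stabilizer _ (2 : Fin 27) ⊓ stabilizer _ (3 : Fin 27)) 4
    (Finset.univ.filter fun q => r0 0 q ∧ r0 1 q ∧ q ≠ 2 ∧ q ≠ 3)
    fun g ⟨⟨⟨⟨h, h0⟩, h1⟩, h2⟩, h3⟩ => Finset.mem_filter.2
      ⟨Finset.mem_univ _, (ad g h _ h0).2 (by decide +kernel), (ad g h _ h1).2 (by decide +kernel),
        ne g h2 (by decide), ne g h3 (by decide)⟩
  have a5 := step (Aut r0 ⊓ stabilizer _ (0 : Fin 27) ⊓ stabilizer _ (1 : Fin 27) ⊓
    stabilizer _ (2 : Fin 27) ⊓ stabilizer _ (3 : Fin 27) ⊓ stabilizer _ (4 : Fin 27)) 5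
    (Finset.univ.filter fun q => r0 0 q ∧ r0 1 q ∧ q ≠ 2 ∧ q ≠ 3 ∧ q ≠ 4)
    fun g ⟨⟨⟨⟨⟨h, h0⟩, h1⟩, h2⟩, h3⟩, h4⟩ => Finset.mem_filter.2
      ⟨Finset.mem_univ _, (ad g h _ h0).2 (by decide +kernel), (ad g h _ h1).2 (by decide +kernel),
        ne g h2 (by decide), ne g h3 (by decide), ne g h4 (by decide)⟩
  have a6 : Aut r0 ⊓ stabilizer _ (0 : Fin 27) ⊓ stabilizer _ (1 : Fin 27) ⊓
      stabilizer _ (2 : Fin 27) ⊓ stabilizer _ (3 : Fin 27) ⊓ stabilizer _ (4 : Fin 27) ⊓
      stabilizer _ (5 : Fin 27) = ⊥ := by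
    refine (Subgroup.eq_bot_iff_forall _).2 fun g ⟨⟨⟨⟨⟨⟨h, h0⟩, h1⟩, h2⟩, h3⟩, h4⟩, h5⟩ => ?_
    have h6 : g 6 = 6 := (by decide +kernel : ∀ q : Fin 27, r0 0 q → r0 1 q → q ≠ 2 → q ≠ 3 →
      q ≠ 4 → q ≠ 5 → q = 6) _ ((ad g h _ h0).2 (by decide +kernel))
      ((ad g h _ h1).2 (by decide +kernel)) (ne g h2 (by decide)) (ne g h3 (by decide))
      (ne g h4 (by decide)) (ne g h5 (by decide))
    refine Equiv.ext fun p => ?_
    by_cases t : 7 ≤ p
    · exact pat p _ t (ad g h _ h0) (ad g h _ h1) (ad g h _ h2) (ad g h _ h3) (ad g h _ h4)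
        (ad g h _ h5) (ad g h _ h6)
    · rcases (by decide : ∀ p : Fin 27, ¬ 7 ≤ p → p = 0 ∨ p = 1 ∨ p = 2 ∨ p = 3 ∨ p = 4 ∨ p = 5 ∨
        p = 6) p t with rfl | rfl | rfl | rfl | rfl | rfl | rfl
      exacts [h0, h1, h2, h3, h4, h5, h6]
  rw [a6, Subgroup.card_bot, show Finset.card _ = 2 by decide +kernel] at a5
  rw [show Finset.card _ = 3 by decide +kernel] at a4
  rw [show Finset.card _ = 4 by decide +kernel] at a3
  rw [show Finset.card _ = 5 by decide +kernel] at a2
  rw [show Finset.card _ = 16 by decide +kernel] at a1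
  rw [show Finset.card _ = 27 by decide +kernel] at a0
  omega

end Cfsg.A8.ES
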