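import Cfsg.Agent.A8.ES1
import Cfsg.Agent.S0822

/-! The unitary group acts faithfully on the 27 isotropic lines. -/

set_option autoImplicit false
set_option maxRecDepth 100000

namespace Cfsg.A8.ES.M

open Cfsg.H3 Cfsg.Agent.S0822

def t3 : ℕ := nat_lit 0x4124405985c04d550000000f926940aacac09e9a0000002369c6c082284075f78000001900000c00000e00000d24b28079d7c06da7008608800000195135404504805d660000000fa27a40964980aeab0000002300000d00000c00000e2892c0b2ba80a689c09a59000000238a18007de74071b6800000196175805544c049140000000f00000e00000d00000c2ca2400000060000080000070c51000000070000060000081031400000080000070000061440c0002040040080081000000000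
def r3 : ℕ := nat_lit 0x7f7e7d7b7a79777675706f6e6d6b6a69676665605f5e5d5b5a59575655504c48444342411c1814131211070605
def tO : ℕ := nat_lit 0x111a80444849464a081223218b082050948c50a210521511828a025214644228118a233020846230c5408282945119100a1291ffc0000000391111a81224604464a089188118b0842a2840c50a1429281118289124a04644244c8212330219140a0c5408a85029119104c8400ffc00000ea011111c9212820446628a4208118b0c2828840c551440a28111a491108a0465146408212326191020a0c528a44402911924900000ffc003f01c070100e0701c07040700701c071038922489204e0248922481700922489207803801dc00f0003b801c07407003801c39012424a48e040494909270109212424b8042328ca320010c5314c5000511c47118001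
def tN : ℕ := nat_lit 0x11000802200100088006008004002044010020041004008010104080808010080200101002101080100202004040080808081190000000080110008028080040020420040022001400c5000000004002320000041000880048000880040120080040020480000008c800488c00000000a004040100801010020402004008011008000003140010011180000040031400000400001118001
def tL : ℕ := nat_lit 0x70000738260780000000004c0003c0004c007800003c009800700000046200440030300000003000000018000c00030000306002200000068000681b50000048000002a0000000241500000480090540068000680000340d00000b816000160000170000005c0b00160000170340700000000073800000240700007024000000002400380e0024000007044000022004400014000032000320280000000500019c80002822000220002200023a000000008000000d000001000013400034000091000006b4000000d0280000000b000000140b0000002c05000a058000340700007000003801000014000000000080280000140020080014000073c5ad3c62d38000000000000000000000000000000000000000022d380150001a000000000200002102a0d00000001500340003400540000a6000000028000000003180030009814000000980005000a0001360000300000001000000080000802600000800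000180000200800c000020780000140000000080000040100000281e00000503c00001e02800100300b800000002000000000210000002e0c0000b801800018002e0008004824000000030000018003000048000012004800024004c80060000001600001400180001800018b0000000280000145800b00014030000000070080000000840000001038000000020000201c070000010010000000320b0002000020000010019000160000005800ce400b00000080000000000001302113181100000000000000000000000000000604403016000000000060000b000000000000000018005800b000c000000002a070000002a000000038000000002100022a0001c070000a810004c000032000000980000001900000180001807300000ce400002601800000240d0000d000004800000001800000c030481a0001a0480000c0000000281400014028000000000000000000000a0028005000500000000170000080000802e000000020000010002017000100400005d0003c0000000b0000001e000016001000010000100059e00000fb000800018000000028000000c02800000018c000000300280c0000c028000c000240001000000000012020000000000000000004001200240020000000000000000000000000000002063021030000000000000000010304cd50000000015998000000001ab300000000000000000000356600000005e450000000005bc800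00000048b7000000000000000048b70000000000012d40000000014258000000005a840000000000002d4200007800b003400034003c00580005801a001e000000000005e9e00000000300038005000050018001c0001c002800c00000000003958000000000048019002000020002400c8000c801000120000000033048000000000016ec8000000000000b7640b7640000000000005bb200000000000000000034a8034a80000000000001a540000000006950000000000003f090000000000001f848000000000000fc2400001f84800000000000060024005800000c004800b00c004800b000034ac00000000000000000540028014054002801400000a800500280054b4000000000000000980170008000013002e0010000026005c00202772000000000000000022000231002206000063000601000010800100000000000000000000006b4000340d00021000010040018c0000c03000000000000000000070000700007388000080000840000000000000000000000000000000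
def ta : ℕ := nat_lit 0x72060c51040c5087188042207182005103040040
def tb : ℕ := nat_lit 0xb24a34c38c38d8c92ca8d92ca24f8ce34c3d964f

/-- The class of an isotropic vector. -/
def cls3 (x : V2) : Fin 45 := Fin.ofNat 45 ((t3 >>> (6 * (cd (x 0) + 4 * cd (x 1) + 16 * cd (x 2) +
  64 * cd (x 3)))) % 64)

/-- Representatives of the isotropic points. -/
def rep3 (i : Fin 45) : V2 := fun k => ⟨((r3 >>> (8 * i.val + 2 * k.val) : ℕ) : ZMod 2),
  ((r3 >>> (8 * i.val + 2 * k.val + 1) : ℕ) : ZMod 2)⟩

/-- Orthogonality. -/
def o (i j : Fin 45) : Bool := Nat.testBit tO (45 * i.1 + j.1)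

/-- Incidence. -/
def on (c : Fin 45) (l : Fin 27) : Bool := Nat.testBit tN (45 * l.1 + c.1)

/-- The line through two points. -/
def ln (i j : Fin 45) : Fin 27 := Fin.ofNat 27 ((tL >>> (5 * (45 * i.1 + j.1))) % 32)

/-- A point on a line. -/
def pa (l : Fin 27) : Fin 45 := Fin.ofNat 45 ((ta >>> (6 * l.1)) % 64)

/-- Another point on a line. -/
def pb (l : Fin 27) : Fin 45 := Fin.ofNat 45 ((tb >>> (6 * l.1)) % 64)

theorem d1 : ∀ i, (hf (rep3 i) (rep3 i) = 0 ∧ rep3 i ≠ 0) ∧ cls3 (rep3 i) = i := by decide +kernel

theorem d2 : ∀ a b c d : F4, hf ![a, b, c, d] ![a, b, c, d] = 0 → (![a, b, c, d] : V2) ≠ 0 →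
    (∃ e : F4, e ≠ 0 ∧ rep3 (cls3 ![a, b, c, d]) = e • (![a, b, c, d] : V2)) ∧
    ∀ e : F4, e ≠ 0 → cls3 (e • ![a, b, c, d]) = cls3 ![a, b, c, d] := by
  decide +kernel

theorem d3 : ∀ i j, o i j = true ↔ hf (rep3 i) (rep3 j) = 0 := by decide +kernel

theorem d4 : ∀ i j, i ≠ j → o i j = true → ∀ c, on c (ln i j) = (o c i && o c j) := by
  decide +kernel

theorem d5 : ∀ l, pa l ≠ pb l ∧ o (pa l) (pb l) = true ∧
    ∀ c, on c l = (o c (pa l) && o c (pb l)) := by decide +kernel

theorem d6 : ∀ l m, (∀ c, on c l = on c m) → l = m := by decide +kernel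

theorem d7 : ∀ c d, (∀ l, on c l = on d l) → c = d := by decide +kernel

theorem d8 : ∀ l m, r0 l m ↔ l ≠ m ∧ ∃ c, on c l = true ∧ on c m = true := by decide +kernel

theorem d9 : ∀ i j : Fin 40, (∀ c, hf (rep2 i) (rep3 c) = 0 ↔ hf (rep2 j) (rep3 c) = 0) → i = j := by
  decide +kernel

theorem hf_smul (c d : F4) (x y : V2) : hf (c • x) (d • y) = c * (d * d) * hf x y := by
  simp only [hf, Pi.smul_apply, smul_eq_mul]; ring

theorem hf_g (g : SU 4 F4 2) (x y : V2) : hf (g • x) (g • y) = hf x y := by
  rw [← hf_eq, ← hf_eq]; exact su_herm g x y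

theorem exists_act {G : Type*} [Group G] (φ : G →* Equiv.Perm (Fin 45))
    (h : ∀ g i j, o (φ g i) (φ g j) = o i j) :
    ∃ θ : G →* Equiv.Perm (Fin 27), ∀ g c l, on (φ g c) (θ g l) = on c l := by
  have key : ∀ g c l, on (φ g c) (ln (φ g (pa l)) (φ g (pb l))) = on c l := fun g c l => by
    rw [d4 _ _ (fun e => (d5 l).1 ((φ g).injective e)) (by rw [h, (d5 l).2.1]), h, h, (d5 l).2.2]
  letI : MulAction G (Fin 27) :=
    { smul := fun g l => ln (φ g (pa l)) (φ g (pb l))
      one_smul := fun l => d6 _ _ fun c => by
        have := key 1 c l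
        rwa [show φ 1 c = c by simp] at this
      mul_smul := fun g k l => d6 _ _ fun c => by
        obtain ⟨c, rfl⟩ := (φ (g * k)).surjective c
        refine (key _ c l).trans ?_
        rw [map_mul, Equiv.Perm.mul_apply]
        exact ((key g _ _).trans (key k c l)).symm }
  exact ⟨MulAction.toPermHom G (Fin 27), key⟩

theorem exists_theta : ∃ θ : SU 4 F4 2 →* Equiv.Perm (Fin 27), Function.Injective θ ∧
    ∀ g, θ g ∈ H7.R3.Aut r0 := by
  have hS : ∀ (g : SU 4 F4 2) (x : V2), hf x x = 0 ∧ x ≠ 0 → hf (g • x) (g • x) = 0 ∧ g • x ≠ 0 :=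
    fun g x hx => ⟨(hf_g g x x).trans hx.1, (smul_ne_zero_iff_ne g).2 hx.2⟩
  have h2 : ∀ x : V2, hf x x = 0 ∧ x ≠ 0 → ∃ c : F4, c ≠ 0 ∧ rep3 (cls3 x) = c • x :=
    fun x hx => by rw [v2_eq x] at hx ⊢; exact (d2 _ _ _ _ hx.1 hx.2).1
  obtain ⟨φ, hφ1, hφ2⟩ := exists_line_hom (F := F4) (G := SU 4 F4 2)
    (fun x : V2 => hf x x = 0 ∧ x ≠ 0) hS cls3 rep3 d1 h2
    (fun x hx => by rw [v2_eq x] at hx ⊢; exact (d2 _ _ _ _ hx.1 hx.2).2)
  have k2 : ∀ x : V2, hf x x = 1 → ∃ c : F4, c ≠ 0 ∧ rep2 (cls2 x) = c • x :=
    fun x hx => by rw [v2_eq x] at hx ⊢; exact (b2 _ _ _ _ hx).1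
  have k1 : ∀ (g : SU 4 F4 2) (x : V2), hf x x = 1 → hf (g • x) (g • x) = 1 :=
    fun g x hx => (hf_g g x x).trans hx
  obtain ⟨ψ, hψ1, hψ2⟩ := exists_line_hom (F := F4) (G := SU 4 F4 2) (fun x : V2 => hf x x = 1)
    k1 cls2 rep2 b1 k2 (fun x hx => by rw [v2_eq x] at hx ⊢; exact (b2 _ _ _ _ hx).2)
  obtain ⟨θ, hθ⟩ := exists_act φ fun g i j => by
    obtain ⟨c, c0, e⟩ := h2 _ (hS g _ (d1 i).1)
    obtain ⟨d, d0, f⟩ := h2 _ (hS g _ (d1 j).1)
    rw [Bool.eq_iff_iff, d3, d3, hφ1, hφ1, e, f, hf_smul, hf_g]
    simp [c0, d0]
  refine ⟨θ, (injective_iff_map_eq_one θ).2 fun g hg => su_scalar g ((hψ2 g).1 ?_), fun g l m => ?_⟩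
  · have f1 : φ g = 1 := Equiv.ext fun c => d7 _ _ fun l => by simpa [hg] using hθ g c l
    refine Equiv.ext fun i => d9 _ _ fun c => ?_
    obtain ⟨a, a0, e⟩ := k2 _ (k1 g _ (b1 i).1)
    obtain ⟨d, f⟩ := (hφ2 g).1 f1 _ (d1 c).1
    have d0 : d ≠ 0 := fun z => (hS g _ (d1 c).1).2 (by rw [f, z, zero_smul])
    have := hf_smul 1 d (g • rep2 i) (rep3 c)
    rw [← f, one_smul, hf_g] at this
    rw [hψ1, e, ← one_smul F4 (rep3 c), hf_smul, one_smul, Equiv.Perm.one_apply, this]
    simp [a0, d0]
  · rw [d8, d8, (θ g).injective.ne_iff]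
    refine and_congr_right fun _ => ⟨fun ⟨c, h1, h2⟩ => ?_, fun ⟨c, h1, h2⟩ =>
      ⟨φ g c, by rw [hθ, h1], by rw [hθ, h2]⟩⟩
    obtain ⟨c, rfl⟩ := (φ g).surjective c
    exact ⟨c, by rwa [hθ] at h1, by rwa [hθ] at h2⟩

end Cfsg.A8.ES.M

namespace Cfsg.A8.ES

open Cfsg.H3 Cfsg.Agent.S0822

theorem model : ∃ Y : Subgroup (Equiv.Perm (Fin 27)), Y ≤ H7.R3.Aut r0 ∧ Nat.card Y = 25920 ∧
    Nonempty (Y ≃* Cfsg.PSp 2 (ZMod 3)) := by
  obtain ⟨θ, h1, h2⟩ := M.exists_theta
  obtain ⟨e⟩ := main
  refine ⟨θ.range, fun _ ⟨g, e⟩ => e ▸ h2 g, ?_, ⟨(MonoidHom.ofInjective h1).symm.trans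
    (((QuotientGroup.quotientMulEquivOfEq center_su).trans QuotientGroup.quotientBot).symm.trans e)⟩⟩
  rw [← card_su]
  exact (Nat.card_congr (MonoidHom.ofInjective h1).toEquiv).symm

end Cfsg.A8.ES
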