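import Cfsg.Agent.A8.F1

/-! The three charts and the finite checks. -/

set_option autoImplicit false
set_option maxRecDepth 100000

namespace Cfsg.A8.F

open Subgroup Cfsg.H5 Cht

def vv (n k : ℕ) (h : 0 < n := by norm_num) : V n := ⟨k % n, Nat.mod_lt _ h⟩

/-- `Q / ⟨z⟩` with `a = 1, c = 2, d = 4, e = 8` -/
def cQ : Cht 16 where
  K := Qu
  u := el 32
  sec v := el (bt v.val 0 + 4 * (v.val / 2))
  pr x := vv 16 (bt x.val 0 + 2 * (x.val / 4 % 8))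
  hn := .inr rfl
  secK := by decide +kernel
  uK := by decide +kernel
  prsec := by decide +kernel
  dec := by decide +kernel
  add := by decide +kernel
  pru := by decide +kernel
  nrm := by decide +kernel
  cen := by decide +kernel

/-- `A` with `b = 1, d = 2, e = 4, z = 8` -/
def cA : Cht 16 where
  K := Au
  u := 1
  sec v := el (2 * bt v.val 0 + 8 * (v.val / 2))
  pr x := vv 16 (bt x.val 1 + 2 * (x.val / 8))
  hn := .inr rfl
  secK := by decide +kernel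
  uK := by decide +kernel
  prsec := by decide +kernel
  dec := by decide +kernel
  add := by decide +kernel
  pru := by decide +kernel
  nrm := by decide +kernel
  cen := by decide +kernel

/-- `U₁` with `a = 1, d = 2, z = 4` -/
def cU : Cht 8 where
  K := U1u
  u := 1
  sec v := el (bt v.val 0 + 8 * bt v.val 1 + 32 * bt v.val 2)
  pr x := vv 8 (bt x.val 0 + 2 * bt x.val 3 + 4 * bt x.val 5)
  hn := .inl rfl
  secK := by decide +kernel
  uK := by decide +kernel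
  prsec := by decide +kernel
  dec := by decide +kernel
  add := by decide +kernel
  pru := by decide +kernel
  nrm := by decide +kernel
  cen := by decide +kernel

def I4 : ℕ := pk 1 2 4 8
def I3 : ℕ := pk 1 2 4 0
def be : ℕ := pk 5 10 4 8
def sg : ℕ := pk 4 8 1 2
def eQ : ℕ := pk 2 3 8 12
def TQ : List ℕ := [I4, be]
def ta : ℕ := pk 3 2 12 8
def tc' : ℕ := pk 5 10 4 8
def TA : List ℕ := [I4, ta, tc', cp ta tc']
def eA : ℕ := pk 1 4 14 8
def w5 : ℕ := pk 8 13 11 1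
def s1 : ℕ := pk 2 1 8 4
def s1' : ℕ := pk 6 9 8 4
def s3 : ℕ := pk 4 8 1 2
def s3' : ℕ := pk 6 8 9 2
def s2 : ℕ := pk 2 1 7 14
def s2' : ℕ := pk 12 9 15 14

theorem tQ : (∀ s, cQ.tc s ∈ TQ ∧ cQ.tc (s * s) = cQ.tc 1) ∧ cQ.tc 1 = I4 ∧ cQ.tc (el 2) = be := by
  decide +kernel
theorem tA : (∀ s, cA.tc s ∈ TA ∧ cA.tc (s * s) = cA.tc 1) ∧ cA.tc 1 = I4 ∧ cA.tc (el 1) = ta ∧
    cA.tc (el 4) = tc' := by decide +kernel
theorem tU : cU.tc 1 = I3 ∧ cU.tc (el 4) = pk 1 6 4 0 ∧ cU.tc (el 16) = pk 5 2 4 0 := by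
  decide +kernel

/-- no word of the list is bad -/
def good (T L : List ℕ) (W : List (List ℕ)) : Bool := W.all fun w => !bad T I4 (evC L I4 w)
def hit (L : List ℕ) (W : List (List ℕ)) (m : ℕ) : Bool := W.any fun w => Nat.beq (evC L I4 w) m
def inj (n m : ℕ) : Bool := TN.allB (fun v => Nat.beq v 0 || !Nat.beq (ap m v) 0) n

def qv (v : ℕ) : ℕ := bt 27328 v
def qp (m : ℕ) : Bool := TN.allB (fun v => Nat.beq (qv (ap m v)) (qv v)) 16
theorem qv_spec : ∀ x ∈ Qu, x * x = 1 ↔ qv (cQ.pr x).val = 0 := by decide +kernel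
theorem qv_lt : ∀ v : V 16, qv v.val = 0 ∨ qv v.val = 1 := by decide +kernel

def WQ : List (List ℕ) := [[0, 0, 0, 1, 0, 1, 0], [0, 1]]
def L18 : List (List ℕ) := [[], [1], [2], [3], [1, 2], [1, 3], [2, 1], [2, 3], [3, 3], [1, 2, 1], [1, 2, 3], [1, 3, 3], [2, 1, 3], [2, 3, 3], [1, 2, 1, 3], [1, 2, 3, 3], [2, 1, 3, 3], [1, 2, 1, 3, 3]]
def L6 : List (List ℕ) := [[], [1], [2], [1, 2], [2, 1], [1, 2, 1]]
def Le : List (List ℕ) := [[0, 0, 1, 0, 0, 1], [0, 0, 0, 0, 1, 0, 0, 0, 0, 1]]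
def Ls : List (List ℕ) := [[0, 0, 0, 0, 0, 1, 0], [0, 0, 0, 1, 0, 1, 0, 1, 0]]

def chkQ (m : ℕ) : Bool := !qp m || !good TQ [m, be] WQ ||
  (hit [I4, be, sg, eQ] L18 m && (hit [I4, be, sg] L6 m || hit [m, be] Le eQ) &&
    (TN.allB (fun v => Nat.beq (v % 4) 0 || !Nat.beq (ap m v % 4) 0) 16 || hit [m, be] Ls sg))

theorem factQ : ∀ p q : V 16, qv p.val = 0 → qv q.val = 0 → qv (Nat.xor p.val q.val) = 0 →
    ∀ r s : V 16, chkQ (pk p.val q.val r.val s.val) = true := by decide +kernel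

def Wz : List (List ℕ) := [[0, 0, 2], [0, 0, 1], [0, 0, 1, 0], [0, 0, 2, 0], [0, 0, 0], [0, 1, 2]]
def Wd : List (List ℕ) := [[0, 0, 2], [0, 0, 1, 2], [0, 0, 1, 0, 0, 2], [0, 0, 0, 1], [0], [0, 0, 1, 0, 2], [0, 1, 0, 1, 2], [0, 0, 0, 2, 0, 1], [0, 0, 2, 0, 1], [0, 1], [0, 1, 2, 0, 2], [0, 0, 1, 0, 1], [0, 0, 0, 1, 0, 2], [0, 0, 1], [0, 0, 0, 0, 2, 0, 0, 1], [0, 0, 0, 0, 1, 2, 0, 0, 1], [0, 2]]
def We : List (List ℕ) := [[0, 0, 1], [0, 1, 0, 2], [0, 0, 0, 1, 0, 2], [0, 0, 1, 2], [0, 0, 0, 1, 2], [0, 0, 1, 0, 1], [0, 0, 1, 0, 0, 2], [0, 2], [0, 1, 0, 1, 2], [0, 0, 0, 2], [0], [0, 0, 0, 2, 0, 1], [0, 0, 0, 0, 1, 0, 0, 2], [0, 0, 0, 0, 1, 0, 0, 1, 2], [0, 1], [0, 1, 2], [0, 0, 2, 0, 2]]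
def Wf : List (List ℕ) := [[0, 0, 1], [0, 0, 2], [0, 0, 0, 1, 2], [0, 0, 0, 2, 0, 1], [0, 0, 1, 0, 1], [0, 1, 0, 2], [0, 0, 1, 2], [0, 0, 0, 2], [0, 0, 0, 1, 0, 2], [0, 0, 0, 0, 1], [0, 1, 2, 0, 2], [0], [0, 1, 2], [0, 0, 0, 0, 2, 0, 0, 1], [0, 0, 0, 0, 1, 0, 0, 2], [0, 0, 2, 0, 2], [0, 1, 0, 1, 2], [0, 0, 0, 0, 2, 0, 1], [0, 0, 0, 0, 1, 0, 2]]
def W5 : List (List ℕ) := [[0], [0, 1, 0, 1, 0, 2], [0, 0, 0, 2], [0, 0, 0, 1]]
def E5 : List (List ℕ) := [[0, 0, 1, 0, 0, 1, 0], [0, 0, 2, 0, 0, 2, 0], [0, 2, 0, 0, 2, 0, 0, 2], [0, 0, 1, 0], [0, 0, 2, 0], [0, 2, 0, 0, 2], [0, 1, 0, 2, 0, 1], [0, 2, 0, 1, 2, 0, 2], [1, 0, 1, 2, 0, 1, 0]]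
def X5 : List (List ℕ) := [[1, 0, 0, 1, 0, 1, 0, 0, 0], [2, 0, 0, 2, 0, 2, 0, 0, 0], [0, 0, 1, 2, 0, 0, 0], [0], [0, 1, 2], [1, 0, 2, 0, 2, 0, 1], [1, 2, 0, 1, 0, 1, 2]]

def LA (m : ℕ) : List ℕ := [m, ta, tc']

theorem factZ : ∀ p q r : V 16, let m := pk p.val q.val r.val 8
    inj 16 m = true → good TA (LA m) Wz = true →
      TA.all (fun t => TA.any fun t' => Nat.beq (cp m t) (cp t' m)) = true := by decide +kernel
theorem factD : ∀ p q r : V 16, let m := pk p.val q.val r.val 2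
    inj 16 m = true → good TA (LA m) Wd = true →
      evC (LA m) I4 [2, 0, 0, 0, 2, 0, 2] = s3 ∨ evC (LA m) I4 [2, 0, 0, 0, 2, 0, 2] = s3' := by
  decide +kernel
theorem factE : ∀ p q r : V 16, let m := pk p.val q.val r.val 4
    inj 16 m = true → good TA (LA m) We = true →
      evC (LA m) I4 [1, 0, 0, 0, 1, 0, 1] = s1 ∨ evC (LA m) I4 [1, 0, 0, 0, 1, 0, 1] = s1' := by
  decide +kernel
theorem factF : ∀ p q r : V 16, let m := pk p.val q.val r.val 6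
    inj 16 m = true → good TA (LA m) Wf = true →
      evC (LA m) I4 [0, 0, 0, 1, 0] = s2 ∨ evC (LA m) I4 [0, 0, 0, 1, 0] = s2' := by
  decide +kernel

/-- the set coded by the mask `M` is mapped into itself -/
def pres (M m : ℕ) : Bool := TN.allB (fun v => Nat.beq (bt M v) 0 || Nat.beq (bt M (ap m v)) 1) 16

theorem fact9 : ∀ p q r : V 16, let m := pk p.val q.val r.val 1
    inj 16 m = true → pres 43946 m = false := by decide +kernel
theorem fact5 : ∀ p q r : V 16, let m := pk p.val q.val r.val 1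
    inj 16 m = true → pres 33066 m = true → good TA (LA m) W5 = true →
      hit (LA m) E5 eA = true ∧ hit (LA m) X5 w5 = true := by decide +kernel

theorem pair : bad TA I4 (evC [s3, ta, s1'] I4 [0, 1, 2]) = true ∧
    bad TA I4 (evC [s3', ta, s1] I4 [0, 1, 2]) = true ∧ bad TA I4 (cp s3 s2) = true ∧
    bad TA I4 (cp s3 (cp s1 s2')) = true ∧ bad TA I4 (cp s3' (cp s1' s2)) = true ∧
    bad TA I4 (cp s3' s2') = true := by decide +kernel

/-- products of conjugates of the letter `0` -/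
def ncw (C : List (List ℕ)) : List ℕ := C.flatMap fun t => t ++ 0 :: t.reverse
def invo (one m : ℕ) : Bool := !Nat.beq m one && Nat.beq (cp m m) one

def N5 : List (List (List ℕ)) := [[[], [], []], [[], []], [[], [], [1]], [[], [], [2]], [[], [], [1, 2]], [[], [1], [], [2]], [[], [1], [], [1, 2]], [[], [2], [], [1, 2]], [[]]]
def NU : List (List (List ℕ)) := [[[], [], [1]], [[], [], [2]], [[], [], [1, 2]], [[], [1]], [[], [2]], [[], [1, 2]], [[]]]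

theorem factN5 : ∀ p s : V 16, bt 33066 p.val = 1 → bt 33066 s.val = 1 → ∀ q r : V 16,
    let m := pk p.val q.val r.val s.val
    inj 16 m = true → pres 33066 m = true → m = I4 ∨
      N5.any (fun C => invo I4 (evC (LA m) I4 (ncw C))) = true := by decide +kernel
theorem factNU : ∀ p q r : V 8, let m := pk p.val q.val r.val 0
    inj 8 m = true → m = I3 ∨
      NU.any (fun C => invo I3 (evC [m, pk 1 6 4 0, pk 5 2 4 0] I3 (ncw C))) = true := by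
  decide +kernel

end Cfsg.A8.F
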